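import Cfsg.Agent.Fi24Out58.Main
import Cfsg.Agent.Exist24.Type24
import Cfsg.Agent.Exist24.Low
import Cfsg.Prelude.Def_Spor_Fi24

/-!
The model on 306936 points as a group of type M(24), and the outer automorphisms of the derived subgroup
of a group isomorphic to it.
-/

set_option autoImplicit false
set_option linter.style.haveILetI false

namespace Cfsg.Agent.Fi24Out58

open Cfsg.Agent Cfsg.Agent.Exist24

variable (H : Checked)

theorem group24 : Cfsg.IsThreeTranspositionGroup (D24 H) := by
  obtain ⟨hs, ⟨d, -, hd⟩, hgen⟩ := class24 H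
  refine ⟨hs, fun g x hx => ?_, hgen⟩
  rw [hd] at hx ⊢
  exact IsConj.trans hx (isConj_iff.2 ⟨g, rfl⟩)

/-- The presented group, when isomorphic to the model, has a derived subgroup with outer group of order 2. -/
theorem fi24_card_out (e : Cfsg.Spor.Fi24 ≃* Gm H) : Nat.card (Cfsg.Out Cfsg.Spor.Fi24') = 2 := by
  haveI : TT95.Gen (D24 H) := TT95.Gen.of_group (group24 H)
  obtain ⟨d, q, hG⟩ := TT95.cfg24_of_type (group24 H) (prim24 H)
    (type24 H ⟨type23.1, type23.2.2⟩)
  exact card_out_of_equiv hG e

end Cfsg.Agent.Fi24Out58
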