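import Cfsg.Agent.Fi24Out58.Sigma
import Cfsg.Agent.TT95.Auto
import Cfsg.Agent.TT95.Layer24
import Cfsg.Agent.OddLocal44.M23.Unique
import Cfsg.Agent.Recog71.Fi23OutMain
import Cfsg.Prelude.Def_KGroupFacts

/-!
Type M(24): the outer automorphism group of the derived subgroup has order 2.
-/

set_option autoImplicit false
set_option linter.unusedSectionVars false
set_option linter.style.haveILetI false

namespace Cfsg.Agent.Fi24Out58

open Cfsg.Agent Cfsg.Agent.TT95

/-- Every automorphism of a group of type M(23) is inner. -/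
theorem inner23 {K : Type*} [Group K] [Finite K] {E : Set K} {a : K} (hG : Cfg23 E a) [Gen E] (α : MulAut K) :
    IsInner α := by
  obtain ⟨e, -⟩ := OddLocal44.M23.exists_iso_fi23 hG
  have h1 : Nat.card (Cfsg.Out Cfsg.Spor.Fi23) = 1 := Recog71.Fi23Out.card_out
  haveI := (Nat.card_eq_one_iff_unique.1 h1).1
  obtain ⟨g, hg⟩ : ((e.trans α).trans e.symm : MulAut Cfsg.Spor.Fi23) ∈ Cfsg.Inn Cfsg.Spor.Fi23 :=
    (QuotientGroup.eq_one_iff _).1 (Subsingleton.elim _ _)
  refine ⟨e g, MulEquiv.ext fun x => ?_⟩
  obtain ⟨y, rfl⟩ := e.surjective x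
  have h := congrArg e (DFunLike.congr_fun hg y)
  simp only [MulAut.conj_apply, MulEquiv.trans_apply, MulEquiv.apply_symm_apply, map_mul, map_inv] at h
  rw [MulAut.conj_apply]
  exact h

variable {G : Type*} [Group G] [Finite G] {D : Set G} {d : G} {q : ModCenter (Subgroup.closure (nb D d))}
  (hG : Cfg24 D d q) [Gen D]

include hG

/-- An automorphism of the whole group preserving the class is inner. -/
theorem inner24 {Φ : MulAut G} (hΦ : Φ ∈ PresAut D) : IsInner Φ := by
  have hD := hG.lay.tt
  haveI := loc_finite hD d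
  haveI := gen_loc24 hG
  obtain ⟨r, hr⟩ := hG.lay.one (Φ d) ((hΦ d).2 hG.mem) d hG.mem
  set β : MulAut G := MulAut.conj r * Φ with hβ
  have hβP : β ∈ PresAut D := (PresAut D).mul_mem
    (fun x => ⟨fun h => by simpa [mul_assoc] using conj_mem hD r⁻¹ h, fun h => conj_mem hD r h⟩) hΦ
  have hβd : β d = d := hr
  have hnb : ∀ x, β x ∈ nb D d ↔ x ∈ nb D d := by
    intro x
    have hcm : Commute d (β x) ↔ Commute d x := by
      conv_lhs => rw [← hβd]
      exact commute_map_iff (f := β) β.injective
    show β x ∈ D ∧ β x ≠ d ∧ _ ↔ x ∈ D ∧ x ≠ d ∧ _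
    rw [hβP x, hcm, show (β x ≠ d ↔ x ≠ d) by
      conv_lhs => rw [← hβd]
      exact β.injective.ne_iff]
  obtain ⟨α, -, hv⟩ := exists_modAut hD β hnb
  obtain ⟨h, hh, hhx⟩ := eq_conj_on_nb hD hG.lay.one hG.lay.tf hG.mem hnb hv (inner23 hG.loc α)
  have hc : MulAut.conj h⁻¹ * β ∈ PresAut D := (PresAut D).mul_mem (fun x =>
    ⟨fun h' => by simpa [mul_assoc] using conj_mem hD h h', fun h' => conj_mem hD h⁻¹ h'⟩) hβP
  have key := inner_of_fix hG.lay hc hG.mem ?_ fun x hx => ?_
  · have h3 := IsInner.mul (⟨r⁻¹ * h, rfl⟩ : IsInner (MulAut.conj (r⁻¹ * h))) key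
    have e : MulAut.conj (r⁻¹ * h) * (MulAut.conj h⁻¹ * β) = Φ := by
      rw [hβ, map_mul, map_inv, map_inv]; group
    rwa [e] at h3
  · show h⁻¹ * β d * h⁻¹⁻¹ = d
    rw [hβd, inv_inv]
    conv_lhs => arg 1; arg 2; rw [← conj_fix_of_mem hD hh]
    group
  · show h⁻¹ * β x * h⁻¹⁻¹ = x
    rw [hhx x hx]
    group

theorem closure_pairs : commutator G ≤ Subgroup.closure {x : G | IsProd D 2 x} := by
  have hD := hG.lay.tt
  set N := Subgroup.closure {x : G | IsProd D 2 x} with hN
  have hn : N.Normal := ⟨fun x hx g => by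
    have hle : N ≤ N.comap (MulAut.conj g).toMonoidHom := by
      rw [hN, Subgroup.closure_le]
      intro y hy
      obtain ⟨a, b, ha, hb, hne, hab, rfl⟩ := isProd2_elim hD hy
      refine Subgroup.subset_closure ?_
      show IsProd D 2 (g * (a * b) * g⁻¹)
      rw [show g * (a * b) * g⁻¹ = g * a * g⁻¹ * (g * b * g⁻¹) by group]
      exact isProd_pair hG (conj_mem hD g ha) (conj_mem hD g hb) (fun e => hne (by simpa using e))
        ((Commute.conj_iff g).2 hab)
    exact hle hx⟩
  have hb : N ≠ ⊥ := fun h => by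
    obtain ⟨b, hb⟩ := nb_nonempty hG hG.mem
    have hp := isProd_pair hG hG.mem hb.1 hb.2.1.symm hb.2.2
    refine pair_ne_one hG hp (Subgroup.mem_bot.1 ?_)
    rw [← h]; exact Subgroup.subset_closure hp
  exact hG.lay.commutator_le (by norm_num) (by norm_num) hG.mem hn hb

/-- Every automorphism of the derived subgroup is a conjugation by an element of the group. -/
theorem exists_conj (φ : MulAut (commutator G)) : ∃ g : G, MulAut.conjNormal g = φ := by
  have hD := hG.lay.tt
  obtain ⟨s, hs⟩ := exists_sig hG φ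
  obtain ⟨s', hs'⟩ := exists_sig hG φ⁻¹
  let cj : G →* MulAut (commutator G) := MulAut.conjNormal
  have hinj : Function.Injective cj := (injective_iff_map_eq_one _).2 fun g hg => by
    rw [← Subgroup.mem_bot, ← centralizer_commutator24 hG, Subgroup.mem_centralizer_iff]
    intro x hx
    have h := congrArg Subtype.val (DFunLike.congr_fun hg ⟨x, hx⟩)
    rw [MulAut.conjNormal_apply] at h
    exact (mul_inv_eq_iff_eq_mul.1 h).symm
  have hle : Subgroup.closure {x : G | IsProd D 2 x} ≤ commutator G :=
    (Subgroup.closure_le _).2 fun x hx => p2_mem_L hG hx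
  have hgen : ∀ a ∈ D, φ * cj a = cj (s a) * φ := by
    intro a ha
    have hsa := sig_mem hG hs ha
    refine MulEquiv.ext fun y => Subtype.ext ?_
    show ((φ (cj a y) : commutator G) : G) = ((cj (s a) (φ y) : commutator G) : G)
    rw [← ext_coe φ (cj a y)]
    simp only [cj, MulAut.conjNormal_apply]
    rw [← ext_coe φ y, inv_eq hD ha, inv_eq hD hsa]
    have hy := closure_pairs hG y.2
    generalize (y : G) = z at hy
    induction hy using Subgroup.closure_induction with
    | mem x hx =>
      obtain ⟨b, c, hb, hc, hne, hbc, rfl⟩ := isProd2_elim hD hx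
      have e1 : a * (b * c) * a = a * b * a * (a * c * a) := by
        rw [show a * b * a * (a * c * a) = a * b * (a * a) * (c * a) by simp only [mul_assoc], sq hD ha]
        simp only [mul_one, mul_assoc]
      have hc' : Commute (a * b * a) (a * c * a) := by
        have := (Commute.conj_iff a).2 hbc
        rwa [inv_eq hD ha] at this
      have hne' : a * c * a ≠ a * b * a := fun e => hne (mul_left_cancel (mul_right_cancel e)).symm
      rw [e1, (sig_pair hG hs (conj_mem' hD hb ha) ⟨conj_mem' hD hc ha, hne', hc'⟩).2, sig_act hG hs ha hb,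
        sig_act hG hs ha hc, (sig_pair hG hs hb ⟨hc, hne.symm, hbc⟩).2,
        show s a * s b * s a * (s a * s c * s a) = s a * s b * (s a * s a) * (s c * s a) by simp only [mul_assoc],
        sq hD hsa]
      simp only [mul_one, mul_assoc]
    | one =>
      rw [mul_one, sq hD ha, show (1 : G) = ((1 : commutator G) : G) from rfl, ext_coe, map_one,
        Subgroup.coe_one, mul_one, sq hD hsa]
    | mul u v hu hv eu ev =>
      have hN : ∀ {w : G}, w ∈ commutator G → a * w * a ∈ commutator G := fun {w} hw => by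
        have := (inferInstance : (commutator G).Normal).conj_mem w hw a
        rwa [inv_eq hD ha] at this
      rw [show a * (u * v) * a = a * u * (a * a) * (v * a) by rw [sq hD ha]; simp only [mul_one, mul_assoc],
        show a * u * (a * a) * (v * a) = a * u * a * (a * v * a) by simp only [mul_assoc],
        ext_mul φ (hN (hle hu)) (hN (hle hv)), eu, ev, ext_mul φ (hle hu) (hle hv),
        show s a * ext φ u * s a * (s a * ext φ v * s a) = s a * ext φ u * (s a * s a) * (ext φ v * s a) by
          simp only [mul_assoc], sq hD hsa]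
      simp only [mul_one, mul_assoc]
    | inv u hu eu =>
      have hN : a * u * a ∈ commutator G := by
        have := (inferInstance : (commutator G).Normal).conj_mem u (hle hu) a
        rwa [inv_eq hD ha] at this
      have hinv : ∀ {w : G}, w ∈ commutator G → ext φ w⁻¹ = (ext φ w)⁻¹ := fun {w} hw =>
        eq_inv_of_mul_eq_one_right (by
          rw [← ext_mul φ hw (inv_mem hw), mul_inv_cancel, show (1 : G) = ((1 : commutator G) : G) from rfl,
            ext_coe, map_one])
      rw [show a * u⁻¹ * a = (a * u * a)⁻¹ by rw [mul_inv_rev, mul_inv_rev, inv_eq hD ha, mul_assoc],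
        hinv hN, eu, hinv (hle hu), mul_inv_rev, mul_inv_rev, inv_eq hD hsa, mul_assoc]
  have hmem : ∀ g : G, φ * cj g * φ⁻¹ ∈ cj.range := by
    intro g
    have hg : g ∈ Subgroup.closure D := by rw [Gen.gen (D := D)]; trivial
    have hle' : Subgroup.closure D ≤ (cj.range.comap ((MulAut.conj φ).toMonoidHom.comp cj)) := by
      rw [Subgroup.closure_le]
      intro a ha
      exact ⟨s a, (mul_inv_eq_iff_eq_mul.2 (hgen a ha)).symm⟩
    exact hle' hg
  let ψ : G →* G := (MonoidHom.ofInjective hinj).symm.toMonoidHom.comp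
    (((MulAut.conj φ).toMonoidHom.comp cj).codRestrict cj.range hmem)
  have hψ : ∀ g, cj (ψ g) = φ * cj g * φ⁻¹ := fun g =>
    congrArg Subtype.val ((MonoidHom.ofInjective hinj).apply_symm_apply ⟨_, hmem g⟩)
  have hψinj : Function.Injective ψ := fun g g' e => hinj (by
    have := congrArg cj e
    rw [hψ, hψ] at this
    exact mul_left_cancel (mul_right_cancel this))
  let Φ : MulAut G := MulEquiv.ofBijective ψ (Finite.injective_iff_bijective.1 hψinj)
  have hΦD : ∀ a ∈ D, Φ a = s a := fun a ha => hinj (by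
    show cj (ψ a) = cj (s a)
    rw [hψ, hgen a ha, mul_inv_cancel_right])
  have hsurj : D ⊆ s '' D := fun x hx => by
    refine ⟨s' x, sig_mem hG hs' hx, ?_⟩
    have := sig_inj hG (φ := φ⁻¹) hs' (s' := s) (by simpa using hs) hx
    exact this
  have hΦ : Φ ∈ PresAut D := fun x => ⟨fun h => by
    obtain ⟨a, ha, e⟩ := hsurj h
    rw [← hΦD a ha] at e
    exact Φ.injective e ▸ ha, fun h => hΦD x h ▸ sig_mem hG hs h⟩
  obtain ⟨g, hg⟩ := inner24 hG hΦ
  refine ⟨g, MulEquiv.ext fun y => Subtype.ext ?_⟩
  rw [MulAut.conjNormal_apply, ← ext_coe φ y]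
  have hy := closure_pairs hG y.2
  generalize (y : G) = z at hy
  induction hy using Subgroup.closure_induction with
  | mem x hx =>
    obtain ⟨b, c, hb, hc, hne, hbc, rfl⟩ := isProd2_elim hD hx
    rw [(sig_pair hG hs hb ⟨hc, hne.symm, hbc⟩).2, ← hΦD b hb, ← hΦD c hc, ← hg]
    simp [mul_assoc]
  | one => rw [mul_one, mul_inv_cancel, show (1 : G) = ((1 : commutator G) : G) from rfl, ext_coe, map_one]
  | mul u v hu hv eu ev => rw [ext_mul φ (hle hu) (hle hv), ← eu, ← ev]; group
  | inv u hu eu =>
    have hinv : ext φ u⁻¹ = (ext φ u)⁻¹ := eq_inv_of_mul_eq_one_right (by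
      rw [← ext_mul φ (hle hu) (inv_mem (hle hu)), mul_inv_cancel,
        show (1 : G) = ((1 : commutator G) : G) from rfl, ext_coe, map_one])
    rw [hinv, ← eu]; group

/-- The derived subgroup has exactly one non-trivial outer automorphism. -/
theorem card_out : Nat.card (Cfsg.Out (commutator G)) = 2 := by
  let cj : G →* MulAut (commutator G) := MulAut.conjNormal
  have hinj : Function.Injective cj := (injective_iff_map_eq_one _).2 fun g hg => by
    rw [← Subgroup.mem_bot, ← centralizer_commutator24 hG, Subgroup.mem_centralizer_iff]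
    intro x hx
    have h := congrArg Subtype.val (DFunLike.congr_fun hg ⟨x, hx⟩)
    rw [MulAut.conjNormal_apply] at h
    exact (mul_inv_eq_iff_eq_mul.1 h).symm
  let e : G ≃* MulAut (commutator G) := MulEquiv.ofBijective cj ⟨hinj, exists_conj hG⟩
  have he : (commutator G).map e.toMonoidHom = Cfsg.Inn (commutator G) := by
    ext α
    constructor
    · rintro ⟨x, hx, rfl⟩
      exact ⟨⟨x, hx⟩, MulEquiv.ext fun y => Subtype.ext (MulAut.conjNormal_apply x y).symm⟩
    · rintro ⟨x, rfl⟩
      exact ⟨x, x.2, MulEquiv.ext fun y => Subtype.ext (MulAut.conjNormal_apply (x : G) y)⟩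
  rw [← Subgroup.index_eq_card, ← he]
  exact (Subgroup.index_map_equiv _ e).trans (index_commutator24 hG)

/-- Transport to an isomorphic group. -/
theorem card_out_of_equiv {H : Type*} [Group H] (e : H ≃* G) : Nat.card (Cfsg.Out (commutator H)) = 2 := by
  have hm : (commutator H).map e.toMonoidHom = commutator G := by
    rw [commutator_def, Subgroup.map_commutator, Subgroup.map_top_of_surjective _ e.surjective, ← commutator_def]
  let f : commutator H ≃* commutator G := (e.subgroupMap _).trans (MulEquiv.subgroupCongr hm)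
  have hI : (Cfsg.Inn (commutator H)).map (MulAut.congr f).toMonoidHom = Cfsg.Inn (commutator G) := by
    ext α
    constructor
    · rintro ⟨_, ⟨x, rfl⟩, rfl⟩
      exact ⟨f x, MulEquiv.ext fun y => by simp [MulAut.congr]⟩
    · rintro ⟨x, rfl⟩
      exact ⟨_, ⟨f.symm x, rfl⟩, MulEquiv.ext fun y => by simp [MulAut.congr]⟩
  rw [Nat.card_congr (QuotientGroup.congr _ _ (MulAut.congr f) hI).toEquiv]
  exact card_out hG

end Cfsg.Agent.Fi24Out58
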