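import Cfsg.Agent.S5465
import Cfsg.Agent.Four95.Main
import Cfsg.Agent.TT95.Invol24

/-!
Type M(24): automorphisms of the derived subgroup permute the products of two commuting transpositions,
and respect the pairs of such products with a common factor.
-/

set_option autoImplicit false
set_option linter.unusedSectionVars false
set_option linter.style.haveILetI false

namespace Cfsg.Agent.Fi24Out58

open Cfsg.Agent Cfsg.Agent.TT95

variable {G : Type*} [Group G]

/-- An automorphism of the derived subgroup as a function on the whole group. -/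
noncomputable def ext (φ : MulAut (commutator G)) (g : G) : G :=
  open Classical in if h : g ∈ commutator G then (φ ⟨g, h⟩ : G) else 1

theorem ext_coe (φ : MulAut (commutator G)) (g : commutator G) : ext φ (g : G) = (φ g : G) := by
  rw [ext, dif_pos g.2]

theorem ext_mem (φ : MulAut (commutator G)) {g : G} (hg : g ∈ commutator G) : ext φ g ∈ commutator G := by
  rw [show g = ((⟨g, hg⟩ : commutator G) : G) from rfl, ext_coe]
  exact (φ _).2

theorem ext_mul (φ : MulAut (commutator G)) {g h : G} (hg : g ∈ commutator G) (hh : h ∈ commutator G) :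
    ext φ (g * h) = ext φ g * ext φ h := by
  rw [show g = ((⟨g, hg⟩ : commutator G) : G) from rfl, show h = ((⟨h, hh⟩ : commutator G) : G) from rfl,
    ← Subgroup.coe_mul, ext_coe, ext_coe, ext_coe, map_mul, Subgroup.coe_mul]

theorem ext_symm (φ : MulAut (commutator G)) {g : G} (hg : g ∈ commutator G) :
    ext φ⁻¹ (ext φ g) = g := by
  rw [show g = ((⟨g, hg⟩ : commutator G) : G) from rfl, ext_coe, ext_coe]
  exact congrArg Subtype.val (MulEquiv.symm_apply_apply φ _)

/-- The centraliser of `x` in the derived subgroup. -/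
abbrev CL (x : G) : Subgroup G := commutator G ⊓ Subgroup.centralizer ({x} : Set G)

/-- The derived subgroup of that centraliser. -/
abbrev KP (x : G) : Subgroup G := ⁅CL x, CL x⁆

theorem map_cent (x : commutator G) :
    (Subgroup.centralizer ({x} : Set (commutator G))).map (commutator G).subtype = CL (x : G) := by
  ext g
  constructor
  · rintro ⟨y, hy, rfl⟩
    exact ⟨y.2, Subgroup.mem_centralizer_singleton_iff.2
      (congrArg Subtype.val (Subgroup.mem_centralizer_singleton_iff.1 hy))⟩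
  · rintro ⟨h1, h2⟩
    exact ⟨⟨g, h1⟩, Subgroup.mem_centralizer_singleton_iff.2
      (Subtype.ext (Subgroup.mem_centralizer_singleton_iff.1 h2 : g * (x : G) = x * g)), rfl⟩

theorem map_cent_aut (φ : MulAut (commutator G)) (x : commutator G) :
    (Subgroup.centralizer ({x} : Set (commutator G))).map φ.toMonoidHom =
      Subgroup.centralizer ({φ x} : Set (commutator G)) := by
  ext g
  rw [Subgroup.mem_map_equiv, Subgroup.mem_centralizer_singleton_iff, Subgroup.mem_centralizer_singleton_iff,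
    ← φ.injective.eq_iff, map_mul, map_mul, MulEquiv.apply_symm_apply]

theorem kp_ext (φ : MulAut (commutator G)) {x y : G} (hx : x ∈ commutator G) (hy : y ∈ KP x) :
    ext φ y ∈ KP (ext φ x) := by
  lift x to commutator G using hx
  rw [KP, ← map_cent, ← Subgroup.map_commutator] at hy
  obtain ⟨v, hv, rfl⟩ := hy
  show ext φ (v : G) ∈ _
  rw [ext_coe, ext_coe, KP, ← map_cent, ← map_cent_aut, ← Subgroup.map_commutator, ← Subgroup.map_commutator]
  exact ⟨φ v, ⟨v, hv, rfl⟩, rfl⟩

/-- Three distinct pairwise commuting members of `D`. -/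
def Tri (D : Set G) (a b c : G) : Prop :=
  (a ∈ D ∧ b ∈ D ∧ c ∈ D) ∧ (a ≠ b ∧ a ≠ c ∧ b ≠ c) ∧ (Commute a b ∧ Commute a c ∧ Commute b c)

theorem Tri.rot {D : Set G} {a b c : G} (h : Tri D a b c) : Tri D b a c :=
  ⟨⟨h.1.2.1, h.1.1, h.1.2.2⟩, ⟨h.2.1.1.symm, h.2.1.2.2, h.2.1.2.1⟩, ⟨h.2.2.1.symm, h.2.2.2.2, h.2.2.2.1⟩⟩

theorem Tri.swap {D : Set G} {a b c : G} (h : Tri D a b c) : Tri D a c b :=
  ⟨⟨h.1.1, h.1.2.2, h.1.2.1⟩, ⟨h.2.1.2.1, h.2.1.1, h.2.1.2.2.symm⟩, ⟨h.2.2.2.1, h.2.2.1, h.2.2.2.2.symm⟩⟩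

/-- `a` is the common factor of `x` and `y`. -/
def Share (D : Set G) (a x y : G) : Prop := ∃ b c, Tri D a b c ∧ a * b = x ∧ a * c = y

variable [Finite G] {D : Set G} {d : G} {q : ModCenter (Subgroup.closure (nb D d))} (hG : Cfg24 D d q) [Gen D]

include hG

theorem isProd_pair {a b : G} (ha : a ∈ D) (hb : b ∈ D) (hne : a ≠ b) (hc : Commute a b) :
    IsProd D 2 (a * b) := by
  refine ⟨[a, b], by simp [hne], rfl, ?_, ?_, by simp⟩
  · intro u hu
    simp only [List.mem_cons, List.not_mem_nil, or_false] at hu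
    rcases hu with rfl | rfl <;> assumption
  · intro u hu v hv
    simp only [List.mem_cons, List.not_mem_nil, or_false] at hu hv
    rcases hu with rfl | rfl <;> rcases hv with rfl | rfl <;>
      first | exact Commute.refl _ | exact hc | exact hc.symm

theorem pair_mem_L {a b : G} (ha : a ∈ D) (hb : b ∈ D) : a * b ∈ commutator G := by
  obtain ⟨ε, hε⟩ := exists_parity hG
  rw [mem_commutator24 hG hε, map_mul, hε a ha, hε b hb]; decide

theorem p2_mem_L {x : G} (h : IsProd D 2 x) : x ∈ commutator G := by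
  obtain ⟨a, b, ha, hb, -, -, rfl⟩ := isProd2_elim hG.lay.tt h
  exact pair_mem_L hG ha hb

theorem p2_or_p4 {x : G} (hx : x * x = 1) (h1 : x ≠ 1) (hL : x ∈ commutator G) :
    IsProd D 2 x ∨ IsProd D 4 x := by
  obtain ⟨ε, hε⟩ := exists_parity hG
  obtain ⟨m, m1, m4, hm⟩ := involution_isProd24 hG hx h1
  have := (mem_commutator24 hG hε x).1 hL
  rw [isProd_parity hG hε hm] at this
  interval_cases m
  · exact absurd this (by decide)
  · exact Or.inl hm
  · exact absurd this (by decide)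
  · exact Or.inr hm

theorem pair_ne_one {x : G} (h : IsProd D 2 x) : x ≠ 1 := by
  obtain ⟨a, b, ha, -, hne, -, rfl⟩ := isProd2_elim hG.lay.tt h
  intro e
  exact hne ((inv_eq hG.lay.tt ha).symm.trans (eq_inv_of_mul_eq_one_right e).symm)

theorem pair_facts {a b : G} (ha : a ∈ D) (hb : b ∈ nb D a) :
    KP (a * b) = commutator G ⊓ Subgroup.centralizer ({a, b} : Set G) ∧
      3 ∣ Nat.card ((Cfsg.generalizedFittingSubgroup (CL (a * b)))) := by
  classical
  set K := commutator G ⊓ Subgroup.centralizer ({a, b} : Set G) with hK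
  obtain ⟨hqs, -, -, χ, hs, -⟩ := pair_derived hG ha hb K hK
  obtain ⟨hle, hidx, -⟩ := pair_swap hG ha hb K (CL (a * b)) hK rfl
  haveI : ((Subgroup.zpowers (a * b)).subgroupOf (CL (a * b))).Normal := ⟨fun x hx v => by
    rw [Subgroup.mem_subgroupOf] at hx ⊢
    obtain ⟨i, hi⟩ := Subgroup.mem_zpowers_iff.1 hx
    simp only [Subgroup.coe_mul, InvMemClass.coe_inv, ← hi]
    rw [show (v : G) * (a * b) ^ i = (a * b) ^ i * v from
      ((show Commute (v : G) (a * b) from Subgroup.mem_centralizer_singleton_iff.1 v.2.2).zpow_right i).eq,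
      mul_inv_cancel_right]
    exact Subgroup.zpow_mem _ (Subgroup.mem_zpowers _) i⟩
  obtain ⟨-, hF, -, -, -, -⟩ := S5465.core hG ha hb K (CL (a * b)) hK rfl
  haveI : (K.subgroupOf (CL (a * b))).Normal := Subgroup.normal_of_index_eq_two hidx
  constructor
  · refine le_antisymm ?_ ?_
    · show ⁅CL (a * b), CL (a * b)⁆ ≤ K
      rw [← Subgroup.map_subtype_commutator]
      have : commutator (CL (a * b)) ≤ K.subgroupOf (CL (a * b)) := by
        have hc : Std.Commutative (α := CL (a * b) ⧸ K.subgroupOf (CL (a * b))) (· * ·) := by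
          haveI : Fact (Nat.Prime 2) := ⟨Nat.prime_two⟩
          haveI : IsCyclic (CL (a * b) ⧸ K.subgroupOf (CL (a * b))) := isCyclic_of_prime_card (p := 2) hidx
          exact ⟨fun u v => IsCyclic.commGroup.mul_comm u v⟩
        exact (Subgroup.Normal.quotient_commutative_iff_commutator_le).1 ⟨hc⟩
      exact (Subgroup.map_mono this).trans (Subgroup.map_subgroupOf_eq_of_le hle).le
    · have hp : ⁅K, K⁆ = K := by
        rw [← Subgroup.map_subtype_commutator, hqs.1.commutator_eq_top, ← MonoidHom.range_eq_map,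
          Subgroup.range_subtype]
      exact hp.ge.trans (Subgroup.commutator_mono hle hle)
  · haveI := loc_finite hG.loc.lay.tt q
    haveI := loc_finite hG.lay.tt d
    have h3 : 3 ∣ Nat.card K := Dvd.dvd.trans
      (by rw [(S5465.k22_iso hG.loc).2]; norm_num) (Subgroup.card_dvd_of_surjective χ hs)
    rwa [hF, Subgroup.card_subtype] at h3

theorem kp_pair {a b : G} (ha : a ∈ D) (hb : b ∈ nb D a) :
    KP (a * b) = commutator G ⊓ Subgroup.centralizer ({a, b} : Set G) := (pair_facts hG ha hb).1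

theorem four_card {x : G} (h : IsProd D 4 x) :
    Nat.card (Cfsg.generalizedFittingSubgroup (CL x)) = 2 ^ 13 := by
  classical
  have h' := h
  obtain ⟨l, hn, hlen, hm, hc, rfl⟩ := h
  match l, hlen, hn, hm, hc, h' with
  | [a, b, c, e], _, hn, hm, hc, hu =>
    have hW := TT95N.Four.Dec.of_list hn hm hc (u := [a, b, c, e].prod) (by simp [mul_assoc])
    obtain ⟨ι, hι⟩ := exists_octChart hG hW.1
    obtain ⟨T, hT, -, -⟩ := Four95.exists_model hG hu hW hι
    obtain ⟨φ, hφ⟩ := Four95.exists_act hG.lay.tt hT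
    obtain ⟨Q, -, hF, -, hQ, -⟩ := Four95.four_main hG hT hφ hu (CL [a, b, c, e].prod) rfl
    rw [hF]; exact hQ

/-- Products of two commuting transpositions go to such products. -/
theorem ext_p2 (φ : MulAut (commutator G)) {x : G} (h : IsProd D 2 x) : IsProd D 2 (ext φ x) := by
  have hxL := p2_mem_L hG h
  have hxx := isProd_sq24 hG h
  have hm := ext_mem φ hxL
  refine (p2_or_p4 hG ?_ ?_ hm).resolve_right fun h4 => ?_
  · rw [← ext_mul φ hxL hxL, hxx, show (1 : G) = ((1 : commutator G) : G) from rfl, ext_coe, map_one]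
  · intro e
    refine pair_ne_one hG h ?_
    rw [← ext_symm φ hxL, e, show (1 : G) = ((1 : commutator G) : G) from rfl, ext_coe, map_one]
  lift x to commutator G using hxL
  rw [ext_coe] at h4
  obtain ⟨a, b, ha, hb, hne, hab, e⟩ := isProd2_elim hG.lay.tt h
  have h3 := (pair_facts hG ha (b := b) ⟨hb, hne.symm, hab⟩).2
  have h2 := four_card hG h4
  rw [e] at h3
  let j := (commutator G).subtype_injective
  let e₁ : CL (x : G) ≃* CL ((φ x : commutator G) : G) :=
    ((MulEquiv.subgroupCongr (map_cent x).symm).trans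
      ((Subgroup.centralizer ({x} : Set (commutator G))).equivMapOfInjective _ j).symm).trans
      (((φ.subgroupMap _).trans (MulEquiv.subgroupCongr (map_cent_aut φ x))).trans
        (((Subgroup.centralizer ({φ x} : Set (commutator G))).equivMapOfInjective _ j).trans
          (MulEquiv.subgroupCongr (map_cent (φ x)))))
  rw [← Components.map_generalizedFitting_equiv e₁, Subgroup.card_map_of_injective e₁.injective] at h2
  rw [h2] at h3
  exact absurd h3 (by norm_num)

theorem share_mul {a x y : G} (h : Share D a x y) : IsProd D 2 (x * y) := by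
  obtain ⟨b, c, ⟨⟨ha, hb, hc⟩, ⟨hab, hac, hbc⟩, cab, cac, cbc⟩, rfl, rfl⟩ := h
  rw [show a * b * (a * c) = a * a * (b * c) from cab.symm.mul_mul_mul_comm a c, sq hG.lay.tt ha, one_mul]
  exact isProd_pair hG hb hc hbc cbc

theorem share_kp {a x y : G} (h : Share D a x y) : y ∈ KP x := by
  obtain ⟨b, c, ⟨⟨ha, hb, hc⟩, ⟨hab, hac, hbc⟩, cab, cac, cbc⟩, rfl, rfl⟩ := h
  rw [kp_pair hG ha ⟨hb, hab.symm, cab⟩]
  refine ⟨pair_mem_L hG ha hc, Subgroup.mem_centralizer_iff.2 ?_⟩
  rintro u (rfl | rfl)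
  · exact ((Commute.refl u).mul_right cac).eq
  · exact (cab.symm.mul_right cbc).eq

theorem share_of_link {x y : G} (hx : IsProd D 2 x) (hy : IsProd D 2 y) (hk : y ∈ KP x)
    (hp : IsProd D 2 (x * y)) : ∃ a, Share D a x y := by
  have hD := hG.lay.tt
  obtain ⟨a, b, ha, hb, hne, hab, rfl⟩ := isProd2_elim hD hx
  obtain ⟨c, e, hc, he, hce, cce, rfl⟩ := isProd2_elim hD hy
  rw [kp_pair hG ha ⟨hb, hne.symm, hab⟩] at hk
  have ca : Commute a (c * e) := Subgroup.mem_centralizer_iff.1 hk.2 a (Or.inl rfl)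
  have cb : Commute b (c * e) := Subgroup.mem_centralizer_iff.1 hk.2 b (Or.inr rfl)
  obtain ⟨ac, ae⟩ := (ThreeTransp.centralize_two hD.1 hc he ha hce cce).1 ca
  obtain ⟨bc, be⟩ := (ThreeTransp.centralize_two hD.1 hc he hb hce cce).1 cb
  have rev : ∀ {u v : G}, Commute u v → u * v = v * u := fun h => h.eq
  by_cases h1 : a = c
  · subst h1
    refine ⟨a, b, e, ⟨⟨ha, hb, he⟩, ⟨hne, hce, fun h => ?_⟩, hab, ae, be⟩, rfl, rfl⟩
    subst h
    exact pair_ne_one hG hp (isProd_sq24 hG hx)
  by_cases h2 : a = e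
  · subst h2
    refine ⟨a, b, c, ⟨⟨ha, hb, hc⟩, ⟨hne, hce.symm, fun h => ?_⟩, hab, ac, bc⟩, rfl, rev cce.symm⟩
    subst h
    refine pair_ne_one hG hp ?_
    rw [rev cce]; exact isProd_sq24 hG hx
  by_cases h3 : b = c
  · subst h3
    exact ⟨b, a, e, ⟨⟨hb, ha, he⟩, ⟨hne.symm, hce, h2⟩, hab.symm, be, ae⟩, rev hab.symm, rfl⟩
  by_cases h4 : b = e
  · subst h4
    exact ⟨b, a, c, ⟨⟨hb, ha, hc⟩, ⟨hne.symm, hce.symm, h1⟩, hab.symm, bc, ac⟩, rev hab.symm, rev cce.symm⟩
  exfalso
  refine two_ne_four hG hp ⟨[a, b, c, e], ?_, rfl, ?_, ?_, by simp [mul_assoc]⟩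
  · simp [hne, h1, h2, h3, h4, hce]
  · intro u hu
    simp only [List.mem_cons, List.not_mem_nil, or_false] at hu
    rcases hu with rfl | rfl | rfl | rfl <;> assumption
  · intro u hu v hv
    simp only [List.mem_cons, List.not_mem_nil, or_false] at hu hv
    rcases hu with rfl | rfl | rfl | rfl <;> rcases hv with rfl | rfl | rfl | rfl <;>
      first | exact Commute.refl _ | assumption | (apply Commute.symm; assumption)

theorem share_unique {a a' x y : G} (h : Share D a x y) (h' : Share D a' x y) : a = a' := by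
  have hD := hG.lay.tt
  obtain ⟨b, c, ⟨⟨ha, hb, hc⟩, ⟨hab, hac, hbc⟩, cab, cac, -⟩, rfl, rfl⟩ := h
  obtain ⟨b', c', ⟨⟨ha', hb', hc'⟩, -, cab', cac', -⟩, e1, e2⟩ := h'
  rcases pair_unique hD hG.lay.tf ha hb ha' hb' hab cab cab' e1.symm with ⟨h1, -⟩ | ⟨h1, -⟩
  · exact h1.symm
  rcases pair_unique hD hG.lay.tf ha hc ha' hc' hac cac cac' e2.symm with ⟨h2, -⟩ | ⟨h2, -⟩
  · exact h2.symm
  exact absurd (h1.symm.trans h2) hbc

/-- Images of pairs with a common factor have one. -/
theorem ext_share (φ : MulAut (commutator G)) {a x y : G} (h : Share D a x y) :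
    ∃ a', Share D a' (ext φ x) (ext φ y) := by
  have hk := share_kp hG h
  have hp := share_mul hG h
  obtain ⟨b, c, ⟨⟨ha, hb, hc⟩, ⟨hab, hac, -⟩, cab, cac, -⟩, rfl, rfl⟩ := h
  have x2 := isProd_pair hG ha hb hab cab
  have y2 := isProd_pair hG ha hc hac cac
  refine share_of_link hG (ext_p2 hG φ x2) (ext_p2 hG φ y2) (kp_ext φ (p2_mem_L hG x2) hk) ?_
  rw [← ext_mul φ (p2_mem_L hG x2) (p2_mem_L hG y2)]
  exact ext_p2 hG φ hp

/-- A third pair linked to two with a common factor has the same factor or is their product. -/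
theorem share_third {a x y z u v : G} (h : Share D a x y) (hu : Share D u x z) (hv : Share D v y z)
    (hne : z ≠ x * y) : Share D a x z := by
  have hD := hG.lay.tt
  have hxy := h
  obtain ⟨b, c, ⟨⟨ha, hb, hc⟩, ⟨hab, hac, hbc⟩, cab, cac, cbc⟩, rfl, rfl⟩ := h
  obtain ⟨p, r, ⟨⟨hu', hp, hr⟩, ⟨nup, nur, npr⟩, cup, cur, -⟩, e1, e2⟩ := id hu
  rcases pair_unique hD hG.lay.tf ha hb hu' hp hab cab cup e1.symm with ⟨h1, -⟩ | ⟨h1, -⟩
  · exact h1 ▸ hu
  obtain ⟨p', r', ⟨⟨hv', hp', hr'⟩, ⟨-, nvr, -⟩, cvp, cvr, -⟩, f1, f2⟩ := id hv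
  rcases pair_unique hD hG.lay.tf ha hc hv' hp' hac cac cvp f1.symm with ⟨h2, -⟩ | ⟨h2, -⟩
  all_goals rcases pair_unique hD hG.lay.tf hu' hr hv' hr' nur cur cvr (e2.trans f2.symm) with ⟨h3, -⟩ | ⟨h3, h4⟩
  · exact absurd (h2.symm.trans (h3.trans h1)) hab
  · -- `z` contains `a` and `b`
    have h5 : z = a * b := by rw [← f2, h2, h4, h1]
    rw [← h5] at e1
    exact absurd (mul_left_cancel (e1.trans e2.symm)) npr
  · exact absurd (h1.symm.trans (h3.symm.trans h2)) hbc
  · refine absurd ?_ hne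
    rw [← f2, h2, h4, h1, show a * b * (a * c) = a * a * (b * c) from cab.symm.mul_mul_mul_comm a c,
      sq hD ha, one_mul, cbc.eq]

end Cfsg.Agent.Fi24Out58
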