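import Cfsg.Agent.Fi24Out58.Pairs

/-!
Type M(24): an automorphism of the derived subgroup induces a map of the transpositions.
-/

set_option autoImplicit false
set_option linter.unusedSectionVars false
set_option linter.style.haveILetI false

namespace Cfsg.Agent.Fi24Out58

open Cfsg.Agent Cfsg.Agent.TT95

variable {G : Type*} [Group G] [Finite G] {D : Set G} {d : G} {q : ModCenter (Subgroup.closure (nb D d))}
  (hG : Cfg24 D d q) [Gen D]

theorem Share.symm' {a x y : G} (h : Share D a x y) : Share D a y x := by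
  obtain ⟨b, c, ht, e1, e2⟩ := h
  exact ⟨c, b, ht.swap, e2, e1⟩

theorem share_of_tri {a b c : G} (h : Tri D a b c) : Share D a (a * b) (a * c) := ⟨b, c, h, rfl, rfl⟩

theorem tri_of_common {a b c : G} (ha : a ∈ D) (hb : b ∈ nb D a) (hc : c ∈ common D a b) : Tri D a b c :=
  ⟨⟨ha, hb.1, hc.1.1⟩, ⟨hb.2.1.symm, hc.1.2.1.symm, hc.2.2.1.symm⟩, ⟨hb.2.2, hc.1.2.2, hc.2.2.2⟩⟩

include hG

theorem common_conn {a b : G} (ha : a ∈ D) (hb : b ∈ nb D a) : Conn (common D a b) := by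
  haveI := loc_finite hG.lay.tt d
  obtain ⟨f, hf⟩ := hG.step.iso a ha
  exact hf.conn_pull Set.inter_subset_left (hf.image_nb hb ▸ hG.loc.lay.nbConn _ (hf.mem hb))

theorem common_nonempty {a b : G} (ha : a ∈ D) (hb : b ∈ nb D a) : (common D a b).Nonempty :=
  Set.nonempty_of_ncard_ne_zero (by rw [hG.lay.card_edge a ha b hb]; norm_num)

theorem nb_nonempty {a : G} (ha : a ∈ D) : (nb D a).Nonempty :=
  Set.nonempty_of_ncard_ne_zero (by rw [hG.lay.card_nb a ha]; norm_num)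

variable (φ : MulAut (commutator G))

theorem share_step {a b c c' S : G} (ha : a ∈ D) (hb : b ∈ nb D a) (hc : c ∈ common D a b)
    (hc' : c' ∈ common D a b) (hcc : Commute c c') (hne : c ≠ c')
    (h : Share D S (ext φ (a * b)) (ext φ (a * c))) : Share D S (ext φ (a * b)) (ext φ (a * c')) := by
  have hD := hG.lay.tt
  have t1 := tri_of_common ha hb hc
  have t2 := tri_of_common ha hb hc'
  have t3 : Tri D a c c' :=
    ⟨⟨ha, hc.1.1, hc'.1.1⟩, ⟨hc.1.2.1.symm, hc'.1.2.1.symm, hne⟩, ⟨hc.1.2.2, hc'.1.2.2, hcc⟩⟩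
  obtain ⟨u, hu⟩ := ext_share hG φ (share_of_tri t2)
  obtain ⟨v, hv⟩ := ext_share hG φ (share_of_tri t3)
  refine share_third hG h hu hv fun e => ?_
  have hab := pair_mem_L hG ha hb.1
  have hac := pair_mem_L hG ha hc.1.1
  rw [← ext_mul φ hab hac] at e
  have e' := congrArg (ext φ⁻¹) e
  rw [ext_symm φ (pair_mem_L hG ha hc'.1.1), ext_symm φ (mul_mem hab hac),
    show a * b * (a * c) = a * a * (b * c) from hb.2.2.symm.mul_mul_mul_comm a c, sq hD ha, one_mul] at e'
  rcases pair_unique hD hG.lay.tf ha hc'.1.1 hb.1 hc.1.1 hc'.1.2.1.symm hc'.1.2.2 hc.2.2.2 e' with ⟨e1, -⟩ | ⟨-, e1⟩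
  · exact hb.2.1 e1
  · exact hc.1.2.1 e1

theorem share_common {a b c c' S : G} (ha : a ∈ D) (hb : b ∈ nb D a) (hc : c ∈ common D a b)
    (hc' : c' ∈ common D a b) (h : Share D S (ext φ (a * b)) (ext φ (a * c))) :
    Share D S (ext φ (a * b)) (ext φ (a * c')) := by
  have hp := common_conn hG ha hb c hc c' hc'
  clear hc'
  induction hp with
  | refl => exact h
  | @tail u v _ e ih =>
    by_cases huv : u = v
    · exact huv ▸ ih
    · exact share_step hG φ ha hb e.1 e.2.1 e.2.2 huv ih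

/-- The image of a transposition. -/
theorem exists_sig : ∃ s : G → G, ∀ a b c, Tri D a b c → Share D (s a) (ext φ (a * b)) (ext φ (a * c)) := by
  have key : ∀ a, ∃ S, ∀ b c, Tri D a b c → Share D S (ext φ (a * b)) (ext φ (a * c)) := by
    intro a
    by_cases ha : a ∈ D
    swap
    · exact ⟨1, fun b c h => absurd h.1.1 ha⟩
    obtain ⟨b₀, hb₀⟩ := nb_nonempty hG ha
    obtain ⟨c₀, hc₀⟩ := common_nonempty hG ha hb₀
    obtain ⟨S, hS⟩ := ext_share hG φ (share_of_tri (tri_of_common ha hb₀ hc₀))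
    have all : ∀ b, b ∈ nb D a → ∀ c ∈ common D a b, Share D S (ext φ (a * b)) (ext φ (a * c)) := by
      intro b hb
      have hp := hG.lay.nbConn a ha b₀ hb₀ b hb
      clear hb
      induction hp with
      | refl => exact fun c hc => share_common hG φ ha hb₀ hc₀ hc hS
      | @tail u v _ e ih =>
        by_cases huv : u = v
        · exact huv ▸ ih
        intro c hc
        have hv : v ∈ common D a u := ⟨e.2.1, ⟨e.2.1.1, Ne.symm huv, e.2.2⟩⟩
        have hu : u ∈ common D a v := ⟨e.1, ⟨e.1.1, huv, e.2.2.symm⟩⟩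
        exact share_common hG φ ha e.2.1 hu hc (ih v hv).symm'
    exact ⟨S, fun b c h => all b ⟨h.1.2.1, h.2.1.1.symm, h.2.2.1⟩ c
      ⟨⟨h.1.2.2, h.2.1.2.1.symm, h.2.2.2.1⟩, ⟨h.1.2.2, h.2.1.2.2.symm, h.2.2.2.2⟩⟩⟩
  choose s hs using key
  exact ⟨s, hs⟩

variable {φ} {s : G → G} (hs : ∀ a b c, Tri D a b c → Share D (s a) (ext φ (a * b)) (ext φ (a * c)))

include hs

theorem sig_mem {a : G} (ha : a ∈ D) : s a ∈ D := by
  obtain ⟨b, hb⟩ := nb_nonempty hG ha
  obtain ⟨c, hc⟩ := common_nonempty hG ha hb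
  obtain ⟨_, _, h, -, -⟩ := hs a b c (tri_of_common ha hb hc)
  exact h.1.1

/-- The image of a product of two commuting transpositions. -/
theorem sig_pair {a b : G} (ha : a ∈ D) (hb : b ∈ nb D a) :
    s b ∈ nb D (s a) ∧ ext φ (a * b) = s a * s b := by
  have hD := hG.lay.tt
  obtain ⟨c, hc⟩ := common_nonempty hG ha hb
  have t := tri_of_common ha hb hc
  obtain ⟨B, C, hT, e1, e2⟩ := hs a b c t
  have h2 := hs b a c t.rot
  have eba : b * a = a * b := hb.2.2.eq.symm
  have ebc : ext φ (b * c) = ext φ (a * b) * ext φ (a * c) := by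
    rw [← ext_mul φ (pair_mem_L hG ha hb.1) (pair_mem_L hG ha hc.1.1),
      show a * b * (a * c) = a * a * (b * c) from hb.2.2.symm.mul_mul_mul_comm a c, sq hD ha, one_mul]
  rw [eba, ebc, ← e1, ← e2, show s a * B * (s a * C) = s a * s a * (B * C) from
    hT.2.2.1.symm.mul_mul_mul_comm (s a) C, sq hD hT.1.1, one_mul] at h2
  have h3 : Share D B (s a * B) (B * C) := ⟨s a, C, hT.rot, hT.2.2.1.eq.symm, rfl⟩
  have eB := share_unique hG h2 h3
  rw [eB]
  exact ⟨⟨hT.1.2.1, hT.2.1.1.symm, hT.2.2.1⟩, e1.symm⟩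

theorem sig_inj {s' : G → G} (hs' : ∀ a b c, Tri D a b c → Share D (s' a) (ext φ⁻¹ (a * b)) (ext φ⁻¹ (a * c)))
    {a : G} (ha : a ∈ D) : s' (s a) = a := by
  obtain ⟨b, hb⟩ := nb_nonempty hG ha
  obtain ⟨c, hc⟩ := common_nonempty hG ha hb
  have t := tri_of_common ha hb hc
  obtain ⟨B, C, hT, e1, e2⟩ := hs a b c t
  have h := hs' (s a) B C hT
  rw [e1, e2, ext_symm φ (pair_mem_L hG ha hb.1), ext_symm φ (pair_mem_L hG ha hc.1.1)] at h
  exact share_unique hG h (share_of_tri t)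

/-- Compatibility with conjugation by the derived subgroup. -/
theorem sig_conj {a x : G} (ha : a ∈ D) (hx : x ∈ commutator G) :
    s (x * a * x⁻¹) = ext φ x * s a * (ext φ x)⁻¹ := by
  have hD := hG.lay.tt
  obtain ⟨b, hb⟩ := nb_nonempty hG ha
  obtain ⟨c, hc⟩ := common_nonempty hG ha hb
  have cj : ∀ {g p r t : G}, Tri D p r t → Tri D (g * p * g⁻¹) (g * r * g⁻¹) (g * t * g⁻¹) := by
    intro g p r t h
    exact ⟨⟨conj_mem hD g h.1.1, conj_mem hD g h.1.2.1, conj_mem hD g h.1.2.2⟩,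
      ⟨fun e => h.2.1.1 (by simpa using e), fun e => h.2.1.2.1 (by simpa using e),
        fun e => h.2.1.2.2 (by simpa using e)⟩,
      ⟨(Commute.conj_iff g).2 h.2.2.1, (Commute.conj_iff g).2 h.2.2.2.1, (Commute.conj_iff g).2 h.2.2.2.2⟩⟩
  have t := tri_of_common ha hb hc
  have hinv : ext φ x⁻¹ = (ext φ x)⁻¹ := eq_inv_of_mul_eq_one_right (by
    rw [← ext_mul φ hx (inv_mem hx), mul_inv_cancel, show (1 : G) = ((1 : commutator G) : G) from rfl, ext_coe,
      map_one])
  have e : ∀ {b : G}, b ∈ D → ext φ (x * a * x⁻¹ * (x * b * x⁻¹)) = ext φ x * ext φ (a * b) * (ext φ x)⁻¹ := by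
    intro b hb
    rw [show x * a * x⁻¹ * (x * b * x⁻¹) = x * (a * b) * x⁻¹ by group,
      ext_mul φ (mul_mem hx (pair_mem_L hG ha hb)) (inv_mem hx), ext_mul φ hx (pair_mem_L hG ha hb), hinv]
  have h1 := hs _ _ _ (cj (g := x) t)
  rw [e hb.1, e hc.1.1] at h1
  obtain ⟨B, C, hT, e1, e2⟩ := hs a b c t
  refine share_unique hG h1 ⟨_, _, cj (g := ext φ x) hT, ?_, ?_⟩
  · rw [← e1]; group
  · rw [← e2]; group

/-- Compatibility with conjugation by transpositions. -/
theorem sig_act {a e : G} (ha : a ∈ D) (he : e ∈ D) : s (a * e * a) = s a * s e * s a := by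
  have hD := hG.lay.tt
  have hsa := sig_mem hG hs ha
  by_cases h : Commute a e
  · rw [conj_fix hD ha h]
    by_cases hne : e = a
    · subst hne
      rw [sq hD hsa, one_mul]
    · exact (conj_fix hD hsa (sig_pair hG hs ha ⟨he, hne, h⟩).1.2.2).symm
  obtain ⟨u, hu⟩ : (common D a e).Nonempty :=
    Set.nonempty_of_ncard_ne_zero (by rw [hG.lay.card_far a ha e ⟨he, h⟩]; norm_num)
  obtain ⟨hau, eau⟩ := sig_pair hG hs ha hu.1
  obtain ⟨hue, -⟩ := sig_pair hG hs he hu.2
  have h1 := sig_conj hG hs he (pair_mem_L hG ha hu.1.1)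
  rw [mul_inv_rev, inv_eq hD hu.1.1, inv_eq hD ha, eau, mul_inv_rev, inv_eq hD hau.1, inv_eq hD hsa] at h1
  calc s (a * e * a) = s (a * u * e * (u * a)) := by
        congr 1
        calc a * e * a = a * (u * e * u) * a := by rw [conj_fix hD hu.1.1 hu.2.2.2.symm]
          _ = _ := by simp only [mul_assoc]
    _ = s a * s u * s e * (s u * s a) := h1
    _ = s a * (s u * s e * s u) * s a := by simp only [mul_assoc]
    _ = s a * s e * s a := by rw [conj_fix hD hau.1 hue.2.2.symm]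

end Cfsg.Agent.Fi24Out58
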